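import Cfsg.Prelude
import Cfsg.Agent.Components.FStar

/-!
An isomorphic image of a group with two open sides has no involution with a closed side.
-/

set_option autoImplicit false

namespace CfsgLib.HeldBridge

open Subgroup

variable {H : Type*} [Group H] [Finite H]

/-- In a group with an extraspecial centralizer setting of width three and both sides open, no
isomorphic image has an involution with a centraliser of order 21504 and a closed side. -/
theorem closed_false {z : H} {R : Subgroup (centralizer ({z} : Set H))} [R.Normal]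
    (hS : Cfsg.IsExtraspecialCentralizerSetting z R 3)
    (hC : Nat.card (centralizer ({z} : Set H)) = 21504)
    (hopen : ∀ E : Subgroup H, E ≤ R.map (centralizer ({z} : Set H)).subtype →
      (∀ m a : H, m * z = z * m → a ∈ E → m * a * m⁻¹ ∈ E) → z ∈ E →
      ∀ g ∈ normalizer (E : Set H), g * z * g⁻¹ = z)
    {X : Type*} [Group X] (φ : H ≃* X) (h2 : ¬ 2 ^ 11 ∣ Nat.card X)
    (t : X) (ht : orderOf t = 2) (htC : Nat.card (centralizer ({t} : Set X)) = 21504)
    (E : Subgroup X) (hE2 : IsPGroup 2 E) (htE : t ∈ E) (hEC : ∀ a ∈ E, a * t = t * a)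
    (hEn : ∀ m a : X, m * t = t * m → a ∈ E → m * a * m⁻¹ ∈ E)
    (g : X) (hg : g ∈ normalizer (E : Set X)) (hgt : g * t * g⁻¹ ≠ t) : False := by
  classical
  haveI : Fact (Nat.Prime 2) := ⟨Nat.prime_two⟩
  obtain ⟨hz2, hFS, hRE, hRc, -⟩ := hS
  have hR2 : IsPGroup 2 R := IsPGroup.of_card hRc
  have hpcore : Cfsg.pCore 2 (centralizer ({z} : Set H)) ≤ R := by
    rw [← hFS]
    exact (CfsgLib.Components.pCore_le_fittingSubgroup 2).trans
      CfsgLib.Components.fitting_le_generalizedFitting
  set t' : H := φ.symm t with ht'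
  have ht'C : Nat.card (centralizer ({t'} : Set H)) = 21504 := by
    rw [← htC]
    exact Nat.card_congr
      { toFun := fun c => ⟨φ c, mem_centralizer_singleton_iff.2 (by
          have := congrArg φ (mem_centralizer_singleton_iff.1 c.2)
          simpa [ht'] using this)⟩
        invFun := fun c => ⟨φ.symm c, mem_centralizer_singleton_iff.2 (by
          have := congrArg φ.symm (mem_centralizer_singleton_iff.1 c.2)
          simpa [ht'] using this)⟩
        left_inv := fun c => by simp
        right_inv := fun c => by simp }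
  have ht'2 : orderOf t' = 2 := by rw [ht', ← ht]; exact φ.symm.orderOf_eq t
  -- Sylow subgroups of the centralisers are Sylow in the group
  have h2H : ¬ 2 ^ 11 ∣ Nat.card H := by rwa [Nat.card_congr φ.toEquiv]
  have hsyl : ∀ x : H, Nat.card (centralizer ({x} : Set H)) = 21504 →
      ∀ P : Sylow 2 (centralizer ({x} : Set H)),
        ∃ S : Sylow 2 H, (S : Subgroup H) = (P : Subgroup _).map (centralizer ({x} : Set H)).subtype := by
    intro x hx P
    have hP : Nat.card P = 2 ^ 10 := by
      rw [P.card_eq_multiplicity, hx]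
      congr 1
      rw [show (21504 : ℕ) = 2 ^ 10 * 21 from rfl, Nat.factorization_mul (by norm_num) (by norm_num),
        Nat.Prime.factorization_pow Nat.prime_two]
      simp [Nat.factorization_eq_zero_of_not_dvd (show ¬ 2 ∣ 21 by norm_num)]
    have h1 : Nat.card ((P : Subgroup _).map (centralizer ({x} : Set H)).subtype) = 2 ^ 10 := by
      rw [card_map_of_injective (centralizer ({x} : Set H)).subtype_injective]; exact hP
    refine ⟨Sylow.ofCard _ ?_, Sylow.coe_ofCard _ _⟩
    rw [h1]
    have hd : 2 ^ 10 ∣ Nat.card H := h1 ▸ Subgroup.card_subgroup_dvd_card _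
    congr 1
    have hpos : Nat.card H ≠ 0 := Nat.card_pos.ne'
    refine le_antisymm ((Nat.Prime.pow_dvd_iff_le_factorization Nat.prime_two hpos).1 hd) ?_
    by_contra h
    exact h2H ((Nat.Prime.pow_dvd_iff_le_factorization Nat.prime_two hpos).2 (by omega))
  obtain ⟨P, hP⟩ := hR2.exists_le_sylow
  obtain ⟨S, hS'⟩ := hsyl z hC P
  obtain ⟨P₀⟩ : Nonempty (Sylow 2 (centralizer ({t'} : Set H))) := inferInstance
  obtain ⟨S₀, hS₀⟩ := hsyl t' ht'C P₀
  obtain ⟨k, hk⟩ := MulAction.exists_smul_eq H S₀ S
  -- the conjugate of `t'` centralises the radical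
  have hcomm : ∀ a ∈ (S : Subgroup H), Commute (k * t' * k⁻¹) a := by
    intro a ha
    rw [← hk, Sylow.coe_subgroup_smul, mem_pointwise_smul_iff_inv_smul_mem, hS₀] at ha
    obtain ⟨⟨b, hb⟩, -, hba⟩ := ha
    have hb' : Commute t' b := (mem_centralizer_singleton_iff.1 hb).symm
    have ea : k * b * k⁻¹ = a := by
      have hba' : b = k⁻¹ * a * k := by simpa [MulAut.smul_def] using hba
      rw [hba']; group
    rw [← ea]
    exact hb'.map (MulAut.conj k).toMonoidHom
  have hzS : z ∈ (S : Subgroup H) := by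
    rw [hS']
    refine ⟨⟨z, mem_centralizer_singleton_iff.2 rfl⟩, hP ?_, rfl⟩
    rw [← hFS]
    exact CfsgLib.Components.centralizer_generalizedFitting_le_self (mem_centralizer_iff.2
      fun a _ => Subtype.ext (mem_centralizer_singleton_iff.1 a.2))
  let w : centralizer ({z} : Set H) :=
    ⟨k * t' * k⁻¹, mem_centralizer_singleton_iff.2 (hcomm z hzS).eq⟩
  have hwR : ∀ a ∈ R, Commute w a := fun a ha => Subtype.ext (hcomm _ (by
    rw [hS']; exact ⟨a, hP ha, rfl⟩)).eq
  have hwmem : w ∈ R := by
    rw [← hFS]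
    refine CfsgLib.Components.centralizer_generalizedFitting_le_self ?_
    rw [hFS]
    exact mem_centralizer_iff.2 fun a ha => (hwR a ha).eq.symm
  have hconj : k * t' * k⁻¹ = z := by
    have hwc : (⟨w, hwmem⟩ : R) ∈ center R :=
      mem_center_iff.2 fun a => Subtype.ext (hwR a a.2).eq.symm
    let zc : centralizer ({z} : Set H) := ⟨z, mem_centralizer_singleton_iff.2 rfl⟩
    have hzR : zc ∈ R := by
      rw [← hFS]
      exact CfsgLib.Components.centralizer_generalizedFitting_le_self (mem_centralizer_iff.2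
        fun a _ => Subtype.ext (mem_centralizer_singleton_iff.1 a.2))
    have hzcc : (⟨zc, hzR⟩ : R) ∈ center R :=
      mem_center_iff.2 fun a => Subtype.ext (Subtype.ext (mem_centralizer_singleton_iff.1 a.1.2))
    obtain ⟨o, -, ho⟩ := Nat.card_eq_two_iff' (1 : center R) |>.1 hRE.2
    have n1 : (⟨_, hwc⟩ : center R) ≠ 1 := fun h => by
      have h' : k * t' * k⁻¹ = 1 := congrArg (fun u : center R => ((u : R) : centralizer ({z} : Set H)).1) h
      rw [mul_inv_eq_one, mul_eq_left] at h'
      rw [h', orderOf_one] at ht'2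
      omega
    have n2 : (⟨_, hzcc⟩ : center R) ≠ 1 := fun h => by
      have h' : z = 1 := congrArg (fun u : center R => ((u : R) : centralizer ({z} : Set H)).1) h
      rw [h', orderOf_one] at hz2
      omega
    exact congrArg (fun u : center R => ((u : R) : centralizer ({z} : Set H)).1)
      ((ho _ n1).trans (ho _ n2).symm)
  -- transport the side
  let ψ : X ≃* H := φ.symm.trans (MulAut.conj k)
  have hψt : ψ t = z := hconj
  have hψc : ∀ m, m * z = z * m → ψ.symm m * t = t * ψ.symm m := fun m hm => by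
    apply ψ.injective
    rw [map_mul, map_mul, MulEquiv.apply_symm_apply, hψt, hm]
  let E' : Subgroup H := E.map ψ.toMonoidHom
  have hmem : ∀ a, a ∈ E' ↔ ψ.symm a ∈ E := fun a => mem_map_equiv
  have hE'n : ∀ m a : H, m * z = z * m → a ∈ E' → m * a * m⁻¹ ∈ E' := fun m a hm ha => by
    rw [hmem] at ha ⊢
    rw [map_mul, map_mul, map_inv]
    exact hEn _ _ (hψc m hm) ha
  have hE'C : E' ≤ centralizer ({z} : Set H) := fun a ha => by
    rw [hmem] at ha
    refine mem_centralizer_singleton_iff.2 (ψ.symm.injective ?_)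
    have ez : ψ.symm z = t := by rw [← hψt, MulEquiv.symm_apply_apply]
    rw [map_mul, map_mul, ez]
    exact hEC _ ha
  haveI hnorm : (E'.subgroupOf (centralizer ({z} : Set H))).Normal :=
    ⟨fun a ha c => hE'n c a (mem_centralizer_singleton_iff.1 c.2) ha⟩
  have hE'p : IsPGroup 2 (E'.subgroupOf (centralizer ({z} : Set H))) :=
    (hE2.map ψ.toMonoidHom).comap_of_injective _ (Subgroup.subtype_injective _)
  have hle : E' ≤ R.map (centralizer ({z} : Set H)).subtype := fun a ha =>
    ⟨⟨a, hE'C ha⟩, hpcore (CfsgLib.Components.le_pCore hE'p ha), rfl⟩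
  have hzE : z ∈ E' := ⟨t, htE, hψt⟩
  have hgn : ψ g ∈ normalizer (E' : Set H) := by
    refine mem_set_normalizer_iff.2 fun a => ?_
    show a ∈ E' ↔ ψ g * a * (ψ g)⁻¹ ∈ E'
    rw [hmem, hmem, map_mul, map_mul, map_inv, MulEquiv.symm_apply_apply]
    exact mem_set_normalizer_iff.1 hg _
  refine hgt (ψ.injective ?_)
  rw [map_mul, map_mul, map_inv, hψt]
  exact hopen E' hle hE'n hzE _ hgn

end CfsgLib.HeldBridge
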