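import Cfsg.Prelude
import Cfsg.Agent.HeldBridge.Closed
import Cfsg.Agent.SporB.SL5
import Cfsg.Agent.M24Centralizer.Affine
import Cfsg.Agent.M24Classes.OctadPairs
import Cfsg.Agent.Inv53.SmallLinearSections
import Cfsg.Agent.MinDegree.Transvection

/-!
`SL₅(2)`, the stabiliser of a vector in it and `M₂₄` have involutions with a closed side.
-/

set_option autoImplicit false
set_option maxRecDepth 4000

namespace CfsgLib.HeldBridge

open Subgroup Matrix
open scoped Pointwise

/-- An involution with centraliser of order 21504 and a closed side. -/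
def HasClosedSide (X : Type*) [Group X] : Prop :=
  ∃ (t : X) (E : Subgroup X), orderOf t = 2 ∧ Nat.card (centralizer ({t} : Set X)) = 21504 ∧
    IsPGroup 2 E ∧ t ∈ E ∧ (∀ a ∈ E, a * t = t * a) ∧
    (∀ m a : X, m * t = t * m → a ∈ E → m * a * m⁻¹ ∈ E) ∧
    (∃ g ∈ normalizer (E : Set X), g * t * g⁻¹ ≠ t) ∧ ¬ 2 ^ 11 ∣ Nat.card X

theorem not_iso_of_closed {H : Type*} [Group H] [Finite H] {z : H}
    {R : Subgroup (centralizer ({z} : Set H))} [R.Normal]
    (hS : Cfsg.IsExtraspecialCentralizerSetting z R 3)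
    (hC : Nat.card (centralizer ({z} : Set H)) = 21504)
    (hopen : ∀ E : Subgroup H, E ≤ R.map (centralizer ({z} : Set H)).subtype →
      (∀ m a : H, m * z = z * m → a ∈ E → m * a * m⁻¹ ∈ E) → z ∈ E →
      ∀ g ∈ normalizer (E : Set H), g * z * g⁻¹ = z)
    {X : Type*} [Group X] (hX : HasClosedSide X) (φ : H ≃* X) : False := by
  obtain ⟨t, E, ht, htC, hE, htE, hEC, hEn, ⟨g, hg, hgt⟩, h2⟩ := hX
  exact closed_false hS hC hopen φ h2 t ht htC E hE htE hEC hEn g hg hgt

abbrev S5 := Matrix.SpecialLinearGroup (Fin 5) (ZMod 2)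
abbrev M5 := Matrix (Fin 5) (Fin 5) (ZMod 2)

theorem card_sl_five : Nat.card S5 ∣ 9999360 := by
  rw [← CfsgLib.Inv53.card_GL_five_two]
  exact Subgroup.card_dvd_of_injective Matrix.SpecialLinearGroup.toGL
    Matrix.SpecialLinearGroup.toGL_injective

/-- The transvection. -/
def tvS : S5 := ⟨Matrix.transvection 0 1 1, Matrix.det_transvection_of_ne _ _ (by decide) _⟩

/-- A transvection moving it. -/
def tvG : S5 := ⟨Matrix.transvection 1 2 1, Matrix.det_transvection_of_ne _ _ (by decide) _⟩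

theorem tvS_sq : tvS * tvS = 1 := Subtype.ext (by
  show Matrix.transvection (0 : Fin 5) 1 (1 : ZMod 2) * Matrix.transvection 0 1 1 = 1
  decide +kernel)

theorem tvS_ne : tvS ≠ 1 := fun h => by
  have h' : Matrix.transvection (0 : Fin 5) 1 (1 : ZMod 2) = 1 := congrArg Subtype.val h
  exact absurd h' (by decide +kernel)

/-- The transvections with the first point, and the identity. -/
def sideE : Subgroup S5 where
  carrier := {x | (x : M5) 0 0 = 1 ∧ ∀ i, i ≠ 0 → ∀ j, (x : M5) i j = (1 : M5) i j}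
  one_mem' := ⟨rfl, fun _ _ _ => rfl⟩
  mul_mem' := fun {a b} ha hb => by
    obtain ⟨ha0, ha⟩ := ha
    obtain ⟨hb0, hb⟩ := hb
    refine ⟨?_, fun i hi j => ?_⟩ <;>
      simp only [Matrix.SpecialLinearGroup.coe_mul, Matrix.mul_apply]
    · rw [Finset.sum_eq_single 0 (fun k _ hk => by rw [hb k hk, Matrix.one_apply_ne hk, mul_zero])
        (fun h => absurd (Finset.mem_univ _) h), ha0, hb0, one_mul]
    · rw [Finset.sum_eq_single i (fun k _ hk => by rw [ha i hi, Matrix.one_apply_ne (Ne.symm hk), zero_mul])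
        (fun h => absurd (Finset.mem_univ _) h), ha i hi, Matrix.one_apply_eq, one_mul, hb i hi]
  inv_mem' := fun {a} ha => by
    obtain ⟨ha0, ha⟩ := ha
    have haa : a * a = 1 := by
      refine Subtype.ext ?_
      ext i j
      simp only [Matrix.SpecialLinearGroup.coe_mul, Matrix.SpecialLinearGroup.coe_one, Matrix.mul_apply]
      by_cases hi : i = 0
      · subst hi
        by_cases hj : j = 0
        · subst hj
          rw [Finset.sum_eq_single 0 (fun k _ hk => by rw [ha k hk, Matrix.one_apply_ne hk, mul_zero])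
            (fun h => absurd (Finset.mem_univ _) h), ha0, one_mul, Matrix.one_apply_eq]
        · rw [Finset.sum_eq_add 0 j (Ne.symm hj) (fun k _ hk => by
            rw [ha k hk.1, Matrix.one_apply_ne hk.2, mul_zero]) (fun h => absurd (Finset.mem_univ _) h)
            (fun h => absurd (Finset.mem_univ _) h), ha0, one_mul, ha j hj, Matrix.one_apply_eq, mul_one,
            Matrix.one_apply_ne (Ne.symm hj)]
          exact CharTwo.add_self_eq_zero _
      · rw [Finset.sum_eq_single i (fun k _ hk => by rw [ha i hi, Matrix.one_apply_ne (Ne.symm hk), zero_mul])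
          (fun h => absurd (Finset.mem_univ _) h), ha i hi, Matrix.one_apply_eq, one_mul, ha i hi]
    rw [inv_eq_of_mul_eq_one_right haa]
    exact ⟨ha0, ha⟩

theorem mem_sideE {x : S5} :
    x ∈ sideE ↔ (x : M5) 0 0 = 1 ∧ ∀ i, i ≠ 0 → ∀ j, (x : M5) i j = (1 : M5) i j := Iff.rfl

/-- Elements fixing the first unit vector normalise the side. -/
theorem sideE_conj {g a : S5} (hg : ∀ i, i ≠ 0 → (g : M5) i 0 = 0) (hg0 : (g : M5) 0 0 = 1)
    (ha : a ∈ sideE) : g * a * g⁻¹ ∈ sideE := by
  obtain ⟨ha0, ha⟩ := ha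
  -- `a - 1` lives in the first row
  have h1 : ((a : M5) - 1) = Matrix.of fun i j => if i = 0 then ((a : M5) - 1) 0 j else 0 := by
    ext i j
    by_cases hi : i = 0
    · subst hi; simp
    · simp [hi, ha i hi j]
  have key : ((g * a * g⁻¹ : S5) : M5) - 1 = (g : M5) * ((a : M5) - 1) * ((g⁻¹ : S5) : M5) := by
    rw [mul_sub, sub_mul, mul_one, ← Matrix.SpecialLinearGroup.coe_mul g g⁻¹, mul_inv_cancel]
    simp only [Matrix.SpecialLinearGroup.coe_mul, Matrix.SpecialLinearGroup.coe_one]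
  have hga : ∀ i j, ((g : M5) * ((a : M5) - 1)) i j = (g : M5) i 0 * ((a : M5) - 1) 0 j := by
    intro i j
    rw [Matrix.mul_apply]
    refine Finset.sum_eq_single 0 (fun k _ hk => ?_) (fun h => absurd (Finset.mem_univ _) h)
    rw [h1]; simp [hk]
  have hzero : ∀ j, (((g : M5) * ((a : M5) - 1)) * (g : M5)) 0 0 = 0 ∧
      ∀ i, i ≠ 0 → ((g : M5) * ((a : M5) - 1)) i j = 0 := fun j => by
    refine ⟨?_, fun i hi => by rw [hga, hg i hi, zero_mul]⟩
    rw [Matrix.mul_apply]
    refine Finset.sum_eq_zero fun k _ => ?_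
    by_cases hk : k = 0
    · subst hk; simp [hga, hg0, ha0]
    · rw [hg k hk, mul_zero]
  have hg' : ∀ i, i ≠ 0 → ((g⁻¹ : S5) : M5) i 0 = 0 := fun i hi => by
    have h := congrFun (congrFun (congrArg Subtype.val (inv_mul_cancel g)) i) 0
    simp only [Matrix.SpecialLinearGroup.coe_mul, Matrix.SpecialLinearGroup.coe_one, Matrix.mul_apply] at h
    rw [Finset.sum_eq_single 0 (fun k _ hk => by rw [hg k hk, mul_zero])
      (fun h => absurd (Finset.mem_univ _) h), hg0, mul_one, Matrix.one_apply_ne hi] at h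
    exact h
  refine ⟨?_, fun i hi j => ?_⟩
  · refine sub_eq_zero.1 ?_
    have h := congrFun (congrFun key 0) 0
    simp only [Matrix.sub_apply, Matrix.one_apply_eq] at h
    rw [h, Matrix.mul_apply]
    refine Finset.sum_eq_zero fun k _ => ?_
    by_cases hk : k = 0
    · subst hk; simp [hga, hg0, ha0]
    · rw [hg' k hk, mul_zero]
  · refine sub_eq_zero.1 ?_
    have h := congrFun (congrFun key i) j
    simp only [Matrix.sub_apply] at h
    rw [h, Matrix.mul_apply]
    exact Finset.sum_eq_zero fun k _ => by rw [(hzero k).2 i hi, zero_mul]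

theorem sideE_two : IsPGroup 2 sideE := fun x => ⟨1, by
  have h := sideE.inv_mem x.2
  refine Subtype.ext ?_
  obtain ⟨x, hx⟩ := x
  show x ^ (2 ^ 1) = 1
  obtain ⟨hx0, hx'⟩ := hx
  refine Subtype.ext ?_
  rw [pow_one, pow_two]
  ext i j
  simp only [Matrix.SpecialLinearGroup.coe_mul, Matrix.SpecialLinearGroup.coe_one, Matrix.mul_apply]
  by_cases hi : i = 0
  · subst hi
    by_cases hj : j = 0
    · subst hj
      rw [Finset.sum_eq_single 0 (fun k _ hk => by rw [hx' k hk, Matrix.one_apply_ne hk, mul_zero])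
        (fun h => absurd (Finset.mem_univ _) h), hx0, one_mul, Matrix.one_apply_eq]
    · rw [Finset.sum_eq_add 0 j (Ne.symm hj) (fun k _ hk => by
        rw [hx' k hk.1, Matrix.one_apply_ne hk.2, mul_zero]) (fun h => absurd (Finset.mem_univ _) h)
        (fun h => absurd (Finset.mem_univ _) h), hx0, one_mul, hx' j hj, Matrix.one_apply_eq, mul_one,
        Matrix.one_apply_ne (Ne.symm hj)]
      exact CharTwo.add_self_eq_zero _
  · rw [Finset.sum_eq_single i (fun k _ hk => by rw [hx' i hi, Matrix.one_apply_ne (Ne.symm hk), zero_mul])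
      (fun h => absurd (Finset.mem_univ _) h), hx' i hi, Matrix.one_apply_eq, one_mul, hx' i hi]⟩

/-- A subgroup of `SL₅(2)` holding the side, the centraliser and the moving element. -/
theorem closed_of_le (N : Subgroup S5)
    (hN : ∀ g : S5, (∀ i, i ≠ 0 → (g : M5) i 0 = 0) → (g : M5) 0 0 = 1 → g ∈ N) :
    HasClosedSide N := by
  have htE : tvS ∈ sideE := by
    refine ⟨by decide +kernel, ?_⟩
    intro i hi j
    show Matrix.transvection (0 : Fin 5) 1 (1 : ZMod 2) i j = (1 : M5) i j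
    simp [Matrix.transvection, Matrix.single_apply, Ne.symm hi]
  have hcol : ∀ {a : S5}, a ∈ sideE → ∀ i, i ≠ 0 → (a : M5) i 0 = 0 := fun ha i hi => by
    rw [ha.2 i hi, Matrix.one_apply_ne hi]
  have hEN : sideE ≤ N := fun a ha => hN a (hcol ha) ha.1
  have hCN : centralizer ({tvS} : Set S5) ≤ N := fun a ha => by
    obtain ⟨h0, -, hc, -⟩ := (CfsgLib.SporB.SL5.mem_iff (s := tvS) rfl a).1 ha
    exact hN a hc h0
  have hgN : tvG ∈ N := hN _ (by decide +kernel) (by decide +kernel)
  refine ⟨⟨tvS, hEN htE⟩, sideE.subgroupOf N, ?_, ?_, sideE_two.comap_of_injective _ N.subtype_injective,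
    htE, ?_, ?_, ⟨⟨tvG, hgN⟩, ?_, ?_⟩, ?_⟩
  · rw [← Subgroup.orderOf_coe]
    exact orderOf_eq_prime (by rw [pow_two]; exact tvS_sq) tvS_ne
  · rw [← CfsgLib.SporB.SL5.card_centralizer (s := tvS) rfl]
    exact Nat.card_congr
      { toFun := fun c => ⟨(c : N), mem_centralizer_singleton_iff.2
          (congrArg Subtype.val (mem_centralizer_singleton_iff.1 c.2))⟩
        invFun := fun c => ⟨⟨c, hCN c.2⟩, mem_centralizer_singleton_iff.2
          (Subtype.ext (mem_centralizer_singleton_iff.1 c.2))⟩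
        left_inv := fun c => rfl
        right_inv := fun c => rfl }
  · intro a ha
    refine Subtype.ext ?_
    have ha' : (a : S5) ∈ sideE := ha
    have hc : (a : S5) ∈ centralizer ({tvS} : Set S5) :=
      (CfsgLib.SporB.SL5.mem_iff (s := tvS) rfl _).2 ⟨ha'.1,
        by rw [ha'.2 1 (by decide), Matrix.one_apply_eq], hcol ha', fun j hj => by
          rw [ha'.2 1 (by decide), Matrix.one_apply_ne (Ne.symm hj)]⟩
    exact mem_centralizer_singleton_iff.1 hc
  · intro m a hm ha
    obtain ⟨h0, -, hc, -⟩ := (CfsgLib.SporB.SL5.mem_iff (s := tvS) rfl (m : S5)).1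
      (mem_centralizer_singleton_iff.2 (congrArg Subtype.val hm))
    exact sideE_conj hc h0 ha
  · refine mem_set_normalizer_iff.2 fun a => ?_
    constructor
    · exact fun ha => sideE_conj (g := tvG) (by decide +kernel) (by decide +kernel) ha
    · intro ha
      have hinv : tvG⁻¹ = tvG := inv_eq_of_mul_eq_one_right (Subtype.ext (by
        show Matrix.transvection (1 : Fin 5) 2 (1 : ZMod 2) * Matrix.transvection 1 2 1 = 1
        decide +kernel))
      have h := sideE_conj (g := tvG) (by decide +kernel) (by decide +kernel) (show _ ∈ sideE from ha)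
      have e : tvG * (((⟨tvG, hgN⟩ : N) * a * (⟨tvG, hgN⟩ : N)⁻¹ : N) : S5) * tvG⁻¹ = (a : S5) := by
        show tvG * (tvG * (a : S5) * tvG⁻¹) * tvG⁻¹ = a
        rw [show tvG * (tvG * (a : S5) * tvG⁻¹) * tvG⁻¹ = (tvG * tvG) * (a : S5) * (tvG * tvG)⁻¹ by group,
          show tvG * tvG = 1 by nth_rw 1 [← hinv]; exact inv_mul_cancel _]
        group
      show (a : S5) ∈ sideE
      rw [← e]
      exact h
  · intro h
    have h0 := congrArg (N.subtype) h
    simp only [map_mul, map_inv, Subgroup.subtype_apply] at h0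
    have h' : tvG * tvS = tvS * tvG := mul_inv_eq_iff_eq_mul.1 h0
    have h'' : ((tvG : M5) * (tvS : M5)) 0 2 = ((tvS : M5) * (tvG : M5)) 0 2 :=
      congrFun (congrFun (congrArg Subtype.val h') 0) 2
    exact absurd h'' (by decide +kernel)
  · exact fun h => absurd (h.trans ((Subgroup.card_subgroup_dvd_card N).trans card_sl_five)) (by norm_num)

theorem HasClosedSide.congr {X Y : Type*} [Group X] [Group Y] (φ : X ≃* Y) (h : HasClosedSide X) :
    HasClosedSide Y := by
  obtain ⟨t, E, ht, htC, hE, htE, hEC, hEn, ⟨g, hg, hgt⟩, h2⟩ := h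
  have hmem : ∀ a, a ∈ E.map φ.toMonoidHom ↔ φ.symm a ∈ E := fun a => mem_map_equiv
  refine ⟨φ t, E.map φ.toMonoidHom, (φ.orderOf_eq t).trans ht, ?_, hE.map _, ⟨t, htE, rfl⟩, ?_, ?_,
    ⟨φ g, ?_, fun e => hgt (φ.injective ?_)⟩, by rwa [← Nat.card_congr φ.toEquiv]⟩
  · rw [← htC]
    exact (Nat.card_congr
      { toFun := fun c => ⟨φ c, mem_centralizer_singleton_iff.2 (by
          rw [← map_mul, ← map_mul, mem_centralizer_singleton_iff.1 c.2])⟩
        invFun := fun c => ⟨φ.symm c, mem_centralizer_singleton_iff.2 (φ.injective (by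
          rw [map_mul, map_mul, φ.apply_symm_apply]; exact mem_centralizer_singleton_iff.1 c.2))⟩
        left_inv := fun c => Subtype.ext (φ.symm_apply_apply _)
        right_inv := fun c => Subtype.ext (φ.apply_symm_apply _) }).symm
  · intro a ha
    have := hEC _ ((hmem a).1 ha)
    simpa using congrArg φ this
  · intro m a hm ha
    rw [hmem] at ha ⊢
    rw [map_mul, map_mul, map_inv]
    exact hEn _ _ (φ.injective (by simpa using hm)) ha
  · refine mem_set_normalizer_iff.2 fun a => ?_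
    show a ∈ E.map φ.toMonoidHom ↔ φ g * a * (φ g)⁻¹ ∈ E.map φ.toMonoidHom
    rw [hmem, hmem, map_mul, map_mul, map_inv, MulEquiv.symm_apply_apply]
    exact mem_set_normalizer_iff.1 hg _
  · rw [map_mul, map_mul, map_inv]; exact e

theorem closed_sl_five : HasClosedSide S5 :=
  (closed_of_le ⊤ fun _ _ _ => mem_top _).congr Subgroup.topEquiv

theorem closed_stabilizer {v : Fin 5 → ZMod 2} (hv : v ≠ 0) :
    HasClosedSide (MulAction.stabilizer S5 v) := by
  let e₀ : Fin 5 → ZMod 2 := Pi.single 0 1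
  have he₀ : e₀ ≠ 0 := fun h => by simpa [e₀] using congrFun h 0
  obtain ⟨k, hk⟩ := CfsgLib.MinDegree.exists_mulVec_eq (by simp) he₀ hv
  have hkv : k • e₀ = v := hk
  let N := (MulAction.stabilizer S5 v).map (MulAut.conj k⁻¹).toMonoidHom
  refine (closed_of_le N fun g hc h0 => ?_).congr
    (((MulAut.conj k⁻¹).subgroupMap (MulAction.stabilizer S5 v))).symm
  refine mem_map_equiv.2 ?_
  rw [MulAction.mem_stabilizer_iff]
  have hge : g • e₀ = e₀ := by
    show (g : M5) *ᵥ e₀ = e₀
    funext i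
    by_cases hi : i = 0
    · subst hi; simp [e₀, Matrix.mulVec_single, h0]
    · simp [e₀, Matrix.mulVec_single, hc i hi, hi]
  have e1 : (MulAut.conj k⁻¹).symm g = k * g * k⁻¹ := by simp [MulAut.conj_symm_apply]
  have e2 : k⁻¹ • v = e₀ := inv_smul_eq_iff.2 hkv.symm
  have e3 : (k * g * k⁻¹) • v = v :=
    calc (k * g * k⁻¹) • v = (k * g) • (k⁻¹ • v) := mul_smul (k * g) k⁻¹ v
      _ = k • g • e₀ := by rw [e2]; exact mul_smul k g e₀
      _ = v := by rw [hge]; exact hkv
  exact (congrArg (· • v) e1).trans e3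

open CfsgLib.M24Centralizer in
theorem closed_m24 : HasClosedSide Cfsg.M24 := by
  classical
  let E : Subgroup Cfsg.M24 :=
    { carrier := {x | ∃ v, (x : Equiv.Perm Cfsg.GolayPt) = T v}
      one_mem' := ⟨0, T_zero.symm⟩
      mul_mem' := fun {a b} ⟨u, hu⟩ ⟨v, hv⟩ => ⟨u ^^^ v, by rw [Subgroup.coe_mul, hu, hv, T_mul]⟩
      inv_mem' := fun {a} ⟨u, hu⟩ => ⟨u, by
        rw [Subgroup.coe_inv, hu]
        exact inv_eq_of_mul_eq_one_right (by rw [T_mul, Fin.xor_self, T_zero])⟩ }
  have hconj : ∀ g : Cfsg.M24, (g : Equiv.Perm Cfsg.GolayPt) ∈ octStab → ∀ a ∈ E, g * a * g⁻¹ ∈ E := by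
    rintro g hg a ⟨v, hv⟩
    obtain ⟨w, hw⟩ := exists_conj hg v
    exact ⟨w, by rw [Subgroup.coe_mul, Subgroup.coe_mul, Subgroup.coe_inv, hv, hw]⟩
  obtain ⟨s, hs⟩ : ∃ s : S5, (s : M5) = Matrix.transvection 0 1 1 := ⟨tvS, rfl⟩
  obtain ⟨ec⟩ := centralizer_equiv s hs
  have hCc : Nat.card Cen = 21504 := by
    rw [Nat.card_congr ec.toEquiv]; exact CfsgLib.SporB.SL5.card_centralizer hs
  -- an element of the octad stabiliser moving the translation
  have hstab : Nat.card (MulAction.stabilizer Cfsg.M24 oct) = 322560 :=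
    CfsgLib.M24Classes.card_octad_stabilizer CfsgLib.M24Classes.baseOctad_mem
  obtain ⟨g, hgo, hgt⟩ : ∃ g ∈ MulAction.stabilizer Cfsg.M24 oct, g * zEl ≠ zEl * g := by
    by_contra h
    push Not at h
    have hle : MulAction.stabilizer Cfsg.M24 oct ≤ Cen := fun g hg =>
      mem_centralizer_singleton_iff.2 (h g hg)
    have := Subgroup.card_le_of_le hle
    rw [hstab, hCc] at this
    omega
  have hgs : (g : Equiv.Perm Cfsg.GolayPt) ∈ octStab := by
    refine ⟨g.2, fun p => ?_⟩
    have h : oct.image (g : Equiv.Perm Cfsg.GolayPt) = oct := hgo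
    conv_lhs => rw [← h]
    exact ⟨fun h' => by
      obtain ⟨q, hq, e⟩ := Finset.mem_image.1 h'
      rwa [← (g : Equiv.Perm Cfsg.GolayPt).injective e],
      fun h' => Finset.mem_image_of_mem _ h'⟩
  refine ⟨zEl, E, orderOf_zEl, hCc, ?_, ⟨1, rfl⟩, ?_, fun m a hm ha =>
    hconj m (cen_stab ⟨m, mem_centralizer_singleton_iff.2 hm⟩) a ha, ⟨g, ?_, fun e => hgt ?_⟩, ?_⟩
  · refine fun ⟨a, v, hv⟩ => ⟨1, Subtype.ext (Subtype.ext ?_)⟩
    rw [pow_one, pow_two, Subgroup.coe_mul, Subgroup.coe_mul, Subgroup.coe_one, Subgroup.coe_one]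
    show (a : Equiv.Perm Cfsg.GolayPt) * a = 1
    rw [hv, T_mul, Fin.xor_self, T_zero]
  · rintro a ⟨v, hv⟩
    refine Subtype.ext ?_
    show (a : Equiv.Perm Cfsg.GolayPt) * T 1 = T 1 * a
    rw [hv, T_mul, T_mul, Fin.xor_comm]
  · refine mem_set_normalizer_iff.2 fun a => ⟨hconj g hgs a, fun h => ?_⟩
    have := hconj g⁻¹ (inv_mem hgs) _ h
    rwa [show g⁻¹ * (g * a * g⁻¹) * g⁻¹⁻¹ = a by group] at this
  · exact mul_inv_eq_iff_eq_mul.1 e
  · rw [CfsgLib.Mathieu.card_M24]
    norm_num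

end CfsgLib.HeldBridge
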