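import Cfsg.Agent.MonsterType.SevenOpen
import Cfsg.Agent.HeldCentre.HeldType
import Cfsg.Agent.HeldBridge.Models
import Cfsg.Agent.SporB.SL5

/-!
The centraliser of a Sylow 7-subgroup in a group of Monster type, modulo it: centraliser of an
involution, and no closed side.
-/

set_option autoImplicit false

namespace CfsgLib.HeldBridge

open Cfsg CfsgLib.MonsterType

variable {G : Type*} [Group G] [Finite G] {z : G}
variable {Q : Subgroup (Subgroup.centralizer ({z} : Set G))} [Q.Normal]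
  {e : (Subgroup.centralizer ({z} : Set G)) ⧸ Q ≃* Spor.Co1}
  {ψ : leechLattice → Q ⧸ Subgroup.center Q}
  (hS : IsExtraspecialCentralizerSetting z Q 12) (hψ : IsLeechModTwoIso Q e ψ)
include hS hψ

/-- The input of the recognition theorem, and the absence of a closed side. -/
theorem monster_seven_data {s : G} (hsQ : ∃ hsc : s ∈ Subgroup.centralizer ({z} : Set G),
      (⟨s, hsc⟩ : Subgroup.centralizer ({z} : Set G)) ∈ Q) (hs : IsConj z s) (hs1 : s ≠ z)
    (B : Subgroup G) (hB : B ≤ Subgroup.centralizer ({z, s} : Set G))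
    (hBp : Nat.card B = 7 ^ (Nat.card ↥(Subgroup.centralizer ({z, s} : Set G))).factorization 7)
    [hn : (B.subgroupOf (Subgroup.centralizer (B : Set G))).Normal]
    (t : Matrix.SpecialLinearGroup (Fin 5) (ZMod 2))
    (ht : (t : Matrix (Fin 5) (Fin 5) (ZMod 2)) = Matrix.transvection 0 1 1) :
    ∃ w : ↥(Subgroup.centralizer (B : Set G)) ⧸ B.subgroupOf (Subgroup.centralizer (B : Set G)),
      orderOf w = 2 ∧
      Nonempty (Subgroup.centralizer ({w} : Set (↥(Subgroup.centralizer (B : Set G)) ⧸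
          B.subgroupOf (Subgroup.centralizer (B : Set G)))) ≃*
        Subgroup.centralizer ({t} : Set (Matrix.SpecialLinearGroup (Fin 5) (ZMod 2)))) ∧
      (∃ g, (∃ hq : g * w * g⁻¹ ∈ Subgroup.centralizer ({w} : Set (↥(Subgroup.centralizer (B : Set G)) ⧸
          B.subgroupOf (Subgroup.centralizer (B : Set G)))),
        (⟨g * w * g⁻¹, hq⟩ : Subgroup.centralizer ({w} : Set (↥(Subgroup.centralizer (B : Set G)) ⧸
          B.subgroupOf (Subgroup.centralizer (B : Set G))))) ∈ pCore 2 (Subgroup.centralizer ({w} :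
            Set (↥(Subgroup.centralizer (B : Set G)) ⧸
              B.subgroupOf (Subgroup.centralizer (B : Set G)))))) ∧ g * w * g⁻¹ ≠ w) ∧
      ∀ (X : Type) [Group X], HasClosedSide X →
        IsEmpty ((↥(Subgroup.centralizer (B : Set G)) ⧸
          B.subgroupOf (Subgroup.centralizer (B : Set G))) ≃* X) := by
  classical
  obtain ⟨e', ψ', b, hψ', hb, hb7, hBe⟩ := Seven.normal_form hS hψ hsQ hs hs1 B hB hBp
  have hzB : z ∈ Subgroup.centralizer (B : Set G) := Subgroup.mem_centralizer_iff.2 fun y hy =>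
    (Subgroup.mem_centralizer_iff.1 (hB hy) z (by simp)).symm
  obtain ⟨R, hRn, hset, ⟨iso⟩, h29, hplus, hlift⟩ :=
    (held_full hS hψ' hb hb7 B hBe).2.2.2 ⟨z, hzB⟩ rfl
  haveI := hRn
  obtain ⟨hiso, hnwc⟩ := CfsgLib.HeldCentre.heldType_data hset iso hplus h29
  refine ⟨_, hset.1, hiso t ht, hnwc, fun X _ hX => ⟨fun φ => ?_⟩⟩
  refine not_iso_of_closed hset ?_ (fun E hE hEC hzE g hg => ?_) hX φ
  · obtain ⟨f⟩ := hiso t ht
    rw [Nat.card_congr f.toEquiv]
    exact CfsgLib.SporB.SL5.card_centralizer ht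
  · refine Seven.open_sides hS hψ' hb hb7 B hBe ⟨z, hzB⟩ rfl E (fun a ha => ?_) hEC hzE g hg
    obtain ⟨a', ha', rfl⟩ := hE ha
    exact hlift a' ha'


/-- The centraliser modulo `B` is the Held group, given the recognition theorem for it. -/
theorem monster_seven_isoHe {s : G} (hsQ : ∃ hsc : s ∈ Subgroup.centralizer ({z} : Set G),
      (⟨s, hsc⟩ : Subgroup.centralizer ({z} : Set G)) ∈ Q) (hs : IsConj z s) (hs1 : s ≠ z)
    (B : Subgroup G) (hB : B ≤ Subgroup.centralizer ({z, s} : Set G))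
    (hBp : Nat.card B = 7 ^ (Nat.card ↥(Subgroup.centralizer ({z, s} : Set G))).factorization 7)
    [hn : (B.subgroupOf (Subgroup.centralizer (B : Set G))).Normal]
    (hrec : ∀ (w : ↥(Subgroup.centralizer (B : Set G)) ⧸ B.subgroupOf (Subgroup.centralizer (B : Set G))),
      orderOf w = 2 →
      (Subgroup.centralizer ({w} : Set (↥(Subgroup.centralizer (B : Set G)) ⧸
          B.subgroupOf (Subgroup.centralizer (B : Set G)))) ≃*
        Subgroup.centralizer ({tvS} : Set (Matrix.SpecialLinearGroup (Fin 5) (ZMod 2)))) →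
      (∃ g, (∃ hq : g * w * g⁻¹ ∈ Subgroup.centralizer ({w} : Set (↥(Subgroup.centralizer (B : Set G)) ⧸
          B.subgroupOf (Subgroup.centralizer (B : Set G)))),
        (⟨g * w * g⁻¹, hq⟩ : Subgroup.centralizer ({w} : Set (↥(Subgroup.centralizer (B : Set G)) ⧸
          B.subgroupOf (Subgroup.centralizer (B : Set G))))) ∈ pCore 2 (Subgroup.centralizer ({w} :
            Set (↥(Subgroup.centralizer (B : Set G)) ⧸
              B.subgroupOf (Subgroup.centralizer (B : Set G)))))) ∧ g * w * g⁻¹ ≠ w) →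
      (∃ v : Fin 5 → ZMod 2, v ≠ 0 ∧ Nonempty ((↥(Subgroup.centralizer (B : Set G)) ⧸
          B.subgroupOf (Subgroup.centralizer (B : Set G))) ≃*
        MulAction.stabilizer (Matrix.SpecialLinearGroup (Fin 5) (ZMod 2)) v)) ∨
      Nonempty ((↥(Subgroup.centralizer (B : Set G)) ⧸ B.subgroupOf (Subgroup.centralizer (B : Set G))) ≃*
        Matrix.SpecialLinearGroup (Fin 5) (ZMod 2)) ∨
      Nonempty ((↥(Subgroup.centralizer (B : Set G)) ⧸ B.subgroupOf (Subgroup.centralizer (B : Set G))) ≃*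
        Cfsg.M24) ∨
      Spor.IsoHe (↥(Subgroup.centralizer (B : Set G)) ⧸ B.subgroupOf (Subgroup.centralizer (B : Set G)))) :
    Spor.IsoHe (↥(Subgroup.centralizer (B : Set G)) ⧸ B.subgroupOf (Subgroup.centralizer (B : Set G))) := by
  obtain ⟨w, hw, ⟨f⟩, hnwc, hX⟩ := monster_seven_data hS hψ hsQ hs hs1 B hB hBp tvS rfl
  rcases hrec w hw f hnwc with ⟨v, hv, ⟨φ⟩⟩ | ⟨⟨φ⟩⟩ | ⟨⟨φ⟩⟩ | h
  · exact ((hX _ (closed_stabilizer hv)).false φ).elim
  · exact ((hX _ closed_sl_five).false φ).elim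
  · exact ((hX _ closed_m24).false φ).elim
  · exact h

end CfsgLib.HeldBridge
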